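import Groth.Agent.Lib.Helper22.Unibranch.Irr

/-!
# The generic fibre of an étale map from an irreducible scheme is a point (helper22)
-/

set_option autoImplicit false
universe u
open CategoryTheory CategoryTheory.Limits AlgebraicGeometry Opposite TopologicalSpace

namespace Groth.Agent.Lib.Helper22.Unibranch

/-- Specialization inside a discrete subset is equality. -/
lemma eq_of_specializes_of_isDiscrete {Z : Type*} [TopologicalSpace Z] {S : Set Z}
    (hS : _root_.IsDiscrete S) {a b : Z} (ha : a ∈ S) (hb : b ∈ S) (h : a ⤳ b) : a = b := by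
  obtain ⟨O, hO, hOS⟩ := (isDiscrete_iff_forall_mem_exists_isOpen.1 hS) b hb
  have hbO : b ∈ O := (hOS.symm ▸ Set.mem_singleton b : b ∈ O ∩ S).1
  have haO : a ∈ O := h.mem_open hO hbO
  have : a ∈ O ∩ S := ⟨haO, ha⟩
  rw [hOS] at this
  exact this

/-- A nonempty étale scheme over an integral scheme has a point over the generic point, in any
given nonempty open. -/
theorem exists_over_generic {X W : Scheme.{u}} [IrreducibleSpace X] (f : W ⟶ X) [Etale f]
    (N : W.Opens) (w : W) (hw : w ∈ N) : ∃ p : W, p ∈ N ∧ f p = genericPoint X := by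
  have hη : genericPoint X ⤳ f w := (genericPoint_spec X).specializes (Set.mem_univ _)
  obtain ⟨p, hp, hfp⟩ := Flat.generalizingMap f hη
  exact ⟨p, hp.mem_open N.isOpen hw, hfp⟩

/-- The fibre over the generic point of an étale map, intersected with an irreducible open, is
at most one point. -/
theorem eq_of_over_generic {X W : Scheme.{u}} [IrreducibleSpace X] (f : W ⟶ X) [Etale f]
    (N : W.Opens) (hN : IsIrreducible (N : Set W)) (p q : W) (hp : p ∈ N) (hq : q ∈ N)
    (hfp : f p = genericPoint X) (hfq : f q = genericPoint X) : p = q := by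
  obtain ⟨ν, hν⟩ := QuasiSober.sober hN.closure isClosed_closure
  have hνN : ν ∈ N := by
    change ν ∈ (N : Set W)
    rw [hν.mem_open_set_iff N.isOpen]
    exact ⟨p, subset_closure hp, hp⟩
  have hspec : ∀ z : W, z ∈ N → ν ⤳ z := by
    intro z hz
    rw [specializes_iff_mem_closure, hν.def]
    exact subset_closure hz
  obtain ⟨ν', hν'N, hfν'⟩ := exists_over_generic f N ν hνN
  have hη : genericPoint X ⤳ f ν := (genericPoint_spec X).specializes (Set.mem_univ _)
  obtain ⟨ν'', hν'', hfν''⟩ := Flat.generalizingMap f hη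
  have hν''N : ν'' ∈ N := hν''.mem_open N.isOpen hνN
  have hνeq : ν'' = ν := (hν''.antisymm (hspec ν'' hν''N)).eq
  have hfν : f ν = genericPoint X := by rw [← hνeq]; exact hfν''
  have hlqf : LocallyQuasiFinite f := Groth.Agent.Lib.Helper14.AS.etale_locallyQuasiFinite f
  have hdisc := f.isDiscrete_preimage_singleton (genericPoint X)
  have e1 : ν = p := eq_of_specializes_of_isDiscrete hdisc hfν hfp (hspec p hp)
  have e2 : ν = q := eq_of_specializes_of_isDiscrete hdisc hfν hfq (hspec q hq)
  exact e1.symm.trans e2

end Groth.Agent.Lib.Helper22.Unibranch
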