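import Groth.Agent.Lib.Helper4.EtNbhd3
import Groth.Agent.Lib.Helper4.HzsSub3
import Groth.Agent.Lib.Helper4.HzsProps
import Groth.Agent.Lib.Helper4.HzsStrict

/-!
# Local rings of schemes étale over a geometrically unibranch scheme have irreducible spectrum
(helper22)
-/

set_option autoImplicit false
set_option linter.style.haveILetI false
universe u
open CategoryTheory AlgebraicGeometry TopologicalSpace

namespace Groth.Agent.Lib.Helper22.Unibranch

open Groth.Agent.Lib.Helper4.Hzs Groth.Agent.Lib.Helper4.EtNbhd

/-- The geometric unibranch hypothesis (all strict localizations irreducible). -/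
def GeomUnibranch (X : Scheme.{u}) : Prop :=
  ∀ (x : X) (R : Type u) [CommRing R] [IsLocalRing R] [Algebra (X.presheaf.stalk x) R]
    [IsLocalHom (algebraMap (X.presheaf.stalk x) R)]
    [Hensel.IsStrictHenselization (X.presheaf.stalk x) R],
    IrreducibleSpace (PrimeSpectrum R)

set_option backward.isDefEq.respectTransparency.types false in
theorem irreducibleSpace_stalk_of_etale {X W : Scheme.{u}} (f : W ⟶ X) [Etale f] (w : W)
    (hX : GeomUnibranch X) :
    IrreducibleSpace (PrimeSpectrum (W.presheaf.stalk w)) := by
  letI : Algebra (X.presheaf.stalk (f w)) (W.presheaf.stalk w) := (f.stalkMap w).hom.toAlgebra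
  have hB : EGA4loc.IsEssentiallyEtale (X.presheaf.stalk (f w)) (W.presheaf.stalk w) :=
    essEtale_stalkMap f w
  haveI : IsLocalHom (algebraMap (X.presheaf.stalk (f w)) (W.presheaf.stalk w)) :=
    isLocalHom_of_essEtale hB
  haveI hirr : IrreducibleSpace (PrimeSpectrum (Hs (X.presheaf.stalk (f w)))) :=
    hX (f w) (Hs (X.presheaf.stalk (f w)))
  obtain ⟨_, hst, hloc, hsh, hinj⟩ := exists_algebra_of_essEtale hB (Hs (X.presheaf.stalk (f w)))
  have hff : Module.FaithfullyFlat (W.presheaf.stalk w) (Hs (X.presheaf.stalk (f w))) :=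
    faithfullyFlat_of_isStrictHenselization (W.presheaf.stalk w) (Hs (X.presheaf.stalk (f w)))
  have hsurj : Function.Surjective (PrimeSpectrum.comap
      (algebraMap (W.presheaf.stalk w) (Hs (X.presheaf.stalk (f w))))) :=
    PrimeSpectrum.comap_surjective_of_faithfullyFlat
  exact hsurj.irreducibleSpace (PrimeSpectrum.continuous_comap _)
    
end Groth.Agent.Lib.Helper22.Unibranch
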