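import Groth.Agent.Lib.Helper22.NormalUnit.Generic
import Groth.Agent.Lib.Helper22.Unibranch.GenFibre
import Groth.Agent.Lib.Helper22.Unibranch.StalkIrr
import Mathlib.AlgebraicGeometry.ResidueField

/-!
# The unit `M_X ⟶ g_* g^* M_X` for the generic point of an irreducible geometrically unibranch
scheme (helper22)
-/

set_option autoImplicit false
set_option linter.style.haveILetI false
set_option linter.unusedSectionVars false
universe u
open CategoryTheory CategoryTheory.Limits AlgebraicGeometry Opposite TopologicalSpace

namespace Groth.Agent.Lib.Helper22.Unibranch.Gen3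

open Groth.Agent.Lib.Helper22.EtStalk Groth.Agent.Lib.Helper22.CechU.Etale
  Groth.Agent.Lib.Helper22.EtLoc Groth.Agent.Lib.Helper22.EtLoc.ConstHom
  Groth.Agent.Lib.Helper22.EtLoc.Clopen Groth.Agent.Lib.Helper22.NormalUnit

noncomputable section

section Generic

variable {X Y : Scheme.{u}} [IrreducibleSpace X] (M : AddCommGrpCat.{u + 1}) (g : Y ⟶ X)
  [IsPreimmersion g] (hg : Set.range g = {genericPoint X})

include hg in
set_option backward.isDefEq.respectTransparency.types false in
/-- A nonempty étale `X`-scheme has a point over the generic point. -/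
lemma exists_point_bc (W : X.Etale) (w : W.left) : Nonempty ((EtCoh.bc g).obj W).left := by
  let wh : W.left ⟶ X := W.hom
  have hWet : Etale wh := W.prop
  obtain ⟨p, -, hp⟩ := Unibranch.exists_over_generic wh ⊤ w trivial
  have hmem : genericPoint X ∈ Set.range g := by rw [hg]; rfl
  obtain ⟨y, hy⟩ := hmem
  have hp' : wh p = g y := by rw [hp, hy]
  obtain ⟨q, -, -⟩ := Scheme.Pullback.exists_preimage_pullback (f := wh) (g := g) p y hp'
  exact ⟨q⟩

include hg in
set_option backward.isDefEq.respectTransparency.types false in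
/-- Over an irreducible open, the base change to the generic point has at most one point. -/
lemma subsingleton_bc (W : X.Etale) (N : W.left.Opens) (hN : IsIrreducible (N : Set W.left)) :
    Subsingleton ((EtCoh.bc g).obj (openSub W N)).left := by
  let wh : W.left ⟶ X := W.hom
  have hWet : Etale wh := W.prop
  let nh : (N : Scheme.{u}) ⟶ X := N.ι ≫ wh
  constructor
  intro q₁ q₂
  change ↥(pullback nh g) at q₁ q₂
  have key : ∀ q : ↥(pullback nh g), wh (N.ι (pullback.fst nh g q)) = genericPoint X := by
    intro q
    have h1 : nh (pullback.fst nh g q) = g (pullback.snd nh g q) := by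
      rw [← Scheme.Hom.comp_apply, ← Scheme.Hom.comp_apply, pullback.condition]
    have h2 : g (pullback.snd nh g q) ∈ Set.range g := ⟨_, rfl⟩
    rw [hg] at h2
    have h4 : g (pullback.snd nh g q) = genericPoint X := h2
    change nh (pullback.fst nh g q) = _
    rw [h1, h4]
  have e1 : N.ι (pullback.fst nh g q₁) = N.ι (pullback.fst nh g q₂) :=
    Unibranch.eq_of_over_generic wh N hN _ _ (pullback.fst nh g q₁).2 (pullback.fst nh g q₂).2
      (key q₁) (key q₂)
  have e2 : pullback.fst nh g q₁ = pullback.fst nh g q₂ :=
    N.ι.isOpenEmbedding.injective e1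
  exact (pullback.fst nh g).isEmbedding.injective e2

variable (hN : GeomUnibranch X)

set_option backward.isDefEq.respectTransparency.types false in
include hg in
lemma mono_ψc_generic : Mono (ψc g M) := by
  have : ∀ W : (X.Etale)ᵒᵖ, Mono ((ψc g M).hom.app W) := by
    intro W
    rw [AddCommGrpCat.mono_iff_injective, injective_iff_map_eq_zero]
    intro s hs
    apply eq_zero_of_germs
    intro Ω _ _ ξ x
    obtain ⟨m, hm⟩ := exists_germ_eq_tsec M ξ W.unop x s
    obtain ⟨W', k, x', hx', hk⟩ :=
      ((Scheme.pointSmallEtale ξ).toPresheafFiber_eq_iff' W.unop x s (tsec M W.unop m)).1 hm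
    have hg' : (cst M).obj.map k.op s = tsec M W' m := hk.trans (tsec_map M k m)
    have nat := (ψc g M).hom.naturality k.op
    have nat2 := congrArg (fun φ => φ.hom s) nat
    have h1 : (ψc g M).hom.app (op W') ((cst M).obj.map k.op s) = 0 := by
      refine nat2.trans ?_
      change ((EtCoh.push g).obj (cst M)).obj.map k.op ((ψc g M).hom.app W s) = 0
      rw [hs, map_zero]
    rw [hg', ψc_tsec] at h1
    obtain ⟨q⟩ := exists_point_bc g hg W' (x'.left (default : Spec (CommRingCat.of Ω)))
    have hm0 : m = 0 := eq_of_tsec_eq M _ q m 0 (h1.trans (map_zero _).symm)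
    rw [hm, hm0, map_zero, map_zero]
  have : Mono (ψc g M).hom := NatTrans.mono_of_mono_app _
  exact Sheaf.Hom.mono_of_presheaf_mono _ _ _

set_option backward.isDefEq.respectTransparency.types false in
include hN hg in
lemma isLocallySurjective_ψc_generic : Sheaf.IsLocallySurjective (ψc g M) := by
  constructor
  intro W t
  rw [mem_smallEtaleTopology_iff]
  intro w
  let wh : W.left ⟶ X := W.hom
  have hWet : Etale wh := W.prop
  have hdom := irreducibleSpace_stalk_of_etale wh w hN
  obtain ⟨N, hwN, hNirr⟩ := Unibranch.exists_irreducible_open wh w hdom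
  let W' : X.Etale := openSub W N
  let T := (EtCoh.bc g).obj W'
  haveI : Subsingleton T.left := subsingleton_bc g hg W N hNirr
  obtain ⟨q⟩ := exists_point_bc g hg W' (⟨w, hwN⟩ : (N : Scheme.{u}))
  obtain ⟨m, hm⟩ := exists_eq_tsec M T q
    ((cst M).obj.map ((EtCoh.bc g).map (openSubι W N)).op t)
  refine ⟨W', openSubι W N, ⟨w, hwN⟩, ⟨tsec M W' m, ?_⟩, rfl⟩
  rw [ψc_tsec]
  exact hm.symm

include hN hg in
/-- **The unit `M ⟶ g_* g^* M` is an isomorphism** for the generic point of a normal integral
scheme. -/
theorem isIso_unit_cst_generic :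
    IsIso ((EtCoh.pullPushAdj g).unit.app (cst (U := X) M)) := by
  have hmono := mono_ψc_generic (X := X) M g hg
  have hepi : Epi (ψc g M) :=
    (Sheaf.isLocallySurjective_iff_epi' _ _).1 (isLocallySurjective_ψc_generic M g hg hN)
  have hiso : IsIso (ψc g M) := isIso_of_mono_of_epi _
  have h2 : (EtCoh.pullPushAdj g).unit.app (cst (U := X) M) =
      ψc g M ≫ (EtCoh.push g).map ((EtCore.pullConstIso g).inv.app M) := by
    unfold ψc
    rw [Category.assoc, ← Functor.map_comp, Iso.hom_inv_id_app]
    erw [CategoryTheory.Functor.map_id]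
    exact (Category.comp_id _).symm
  rw [h2]
  infer_instance

end Generic

end

end Groth.Agent.Lib.Helper22.Unibranch.Gen3
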